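import Groth.Agent.H56.ResPerf.AddLRes
import Groth.Agent.H56.PSup.PC
import Groth.Agent.H56.ProjPC.Bound
import Groth.Agent.Lib.RHomO.Main
import Groth.Agent.Lib.Exchange.Algz.Embed
import Groth.Agent.Lib.PicProjOver.Basic
import Groth.Agent.S8664
import Groth.Agent.S11319
import Groth.Agent.S0961
import Groth.Agent.S1108
import Groth.Agent.S1110
import Groth.Agent.S5186
import Groth.Agent.Lib.ExchangeFP29.RegSheaf
import Groth.Agent.Lib.CohDelta.IndExt.QCoh
import Groth.Agent.Lib.Exchange.NearFibre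

/-!
# High twists of pseudo-coherent objects on projective space are acyclic in high degrees
-/

set_option autoImplicit false
set_option linter.style.haveILetI false
set_option linter.unusedSectionVars false

universe u

open CategoryTheory Limits AlgebraicGeometry Pretriangulated HomologicalComplex

attribute [local instance] HasDerivedCategory.standard

namespace Groth.Agent.H56.TwistAcyc

open Groth.Agent.Lib Groth.Agent.Lib.DerivedOX Groth.Agent.Lib.Perfect
open Groth.Agent.Lib.Perfect.Basic Groth.Agent.Lib.SchColim29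

/-- `Rf_*` of a bounded complex with acyclic terms. -/
theorem isLE_of_terms {X S : Scheme.{u}} (f : X ⟶ S) [DCoh.HasRpush f] (a : ℤ) :
    ∀ (k : ℕ) (E : CochainComplex X.Modules ℤ), (∀ i, i < a + 1 - k → IsZero (E.X i)) →
      (∀ i, a < i → IsZero (E.X i)) →
      (∀ i, ((DCoh.Rpush f).obj (DCoh.inD X (E.X i))).IsLE 0) →
      ((DCoh.Rpush f).obj (DerivedCategory.Q.obj E)).IsLE a := by
  intro k
  induction k with
  | zero =>
    intro E hlo hhi _
    have hz : IsZero E := by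
      rw [IsZero.iff_id_eq_zero]
      refine HomologicalComplex.hom_ext _ _ fun i => ?_
      apply IsZero.eq_of_src
      by_cases hi : i < a + 1
      · exact hlo i (by simpa using hi)
      · exact hhi i (by omega)
    exact (DerivedCategory.isLE_iff _ _).2 fun i _ =>
      (DerivedCategory.homologyFunctor S.Modules i).map_isZero
        ((DCoh.Rpush f).map_isZero (DerivedCategory.Q.map_isZero hz))
  | succ k ih =>
    intro E hlo hhi hE
    let c : ℤ := a + 1 - (k + 1 : ℕ)
    obtain ⟨u, g, δ, hd⟩ := PCSingle.exists_bottom E c hlo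
    have h1 := ih (Stupid.trunc E (c + 1)) (fun i hi => Stupid.isZero_trunc E _ i (by omega))
      (fun i hi => by
        haveI : Mono ((Stupid.ι E (c + 1)).f i) := inferInstanceAs (Mono (kernel.ι _))
        exact IsZero.of_mono ((Stupid.ι E (c + 1)).f i) (hhi i hi))
      (fun i => by
        by_cases hi : c + 1 ≤ i
        · haveI := Stupid.isIso_ι E (c + 1) i hi
          haveI := hE i
          exact DerivedCategory.TStructure.t.isLE_of_iso ((DCoh.Rpush f).mapIso
            ((DerivedCategory.singleFunctor X.Modules 0).mapIso (asIso ((Stupid.ι E (c + 1)).f i)).symm)) 0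
        · exact (DerivedCategory.isLE_iff _ _).2 fun j _ =>
            (DerivedCategory.homologyFunctor S.Modules j).map_isZero ((DCoh.Rpush f).map_isZero
              ((DerivedCategory.singleFunctor X.Modules 0).map_isZero
                (Stupid.isZero_trunc E _ i (by omega)))))
    have h3 : ((DCoh.Rpush f).obj ((DerivedCategory.singleFunctor X.Modules c).obj (E.X c))).IsLE a := by
      haveI := hE c
      let e : (DCoh.inD X (E.X c))⟦-c⟧ ≅ (DerivedCategory.singleFunctor X.Modules c).obj (E.X c) :=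
        ((DerivedCategory.singleFunctors X.Modules).shiftIso (-c) c 0 (by omega)).app (E.X c)
      haveI : DerivedCategory.TStructure.t.IsLE (((DCoh.Rpush f).obj (DCoh.inD X (E.X c)))⟦-c⟧) c :=
        DerivedCategory.TStructure.t.isLE_shift _ 0 (-c) c (by omega)
      haveI : DerivedCategory.TStructure.t.IsLE
          ((DCoh.Rpush f).obj ((DerivedCategory.singleFunctor X.Modules c).obj (E.X c))) c :=
        let e' : ((DCoh.Rpush f).obj (DCoh.inD X (E.X c)))⟦-c⟧ ≅
            (DCoh.Rpush f).obj ((DerivedCategory.singleFunctor X.Modules c).obj (E.X c)) :=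
          (((DCoh.Rpush f).commShiftIso (-c)).app _).symm ≪≫ (DCoh.Rpush f).mapIso e
        DerivedCategory.TStructure.t.isLE_of_iso e' c
      exact DerivedCategory.TStructure.t.isLE_of_le _ c a (by omega)
    exact DerivedCategory.TStructure.t.isLE₂ _ ((DCoh.Rpush f).map_distinguished _ hd) a h1 h3

variable (r : ℕ) {Y : Scheme.{u}}

/-- The twisting module in degree zero. -/
noncomputable abbrev O (d : ℤ) : CochainComplex (KRR.PY r Y).Modules ℤ :=
  (single (KRR.PY r Y).Modules (ComplexShape.up ℤ) 0).obj (Twist.twistOver r Y d)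

theorem isFinLocFree_twist (d : ℤ) : FlatMod.IsFinLocFree (Twist.twistOver r Y d) :=
  TensorMod.TensorInv.isFinLocFree_left
    (TensorMod.Invertible.tensorDualIso (PicProjOver.isInvertible_twistOver r Y d))

theorem isFinLocFree_O (d i : ℤ) : FlatMod.IsFinLocFree ((O r (Y := Y) d).X i) := by
  by_cases hi : i = 0
  · subst hi
    exact TensorMod.LocFree.of_iso (singleObjXSelf (ComplexShape.up ℤ) 0 _).symm (isFinLocFree_twist r d)
  · exact Stupid.isFinLocFree_isZero (isZero_single_obj_X (ComplexShape.up ℤ) 0 _ i hi)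

theorem isKFlat_O (d : ℤ) : DCoh.IsKFlat (O r (Y := Y) d) :=
  Amplitude.isKFlat_of_bounded _ 0
    (fun i hi => isZero_single_obj_X (ComplexShape.up ℤ) 0 _ i (by omega))
    fun i => TensorMod.FPConv.isFlat_of_isFinLocFree (isFinLocFree_O r d i)

theorem hasResolutionProperty (Y : Scheme.{u}) [IsAffine Y] :
    PerfAux.HasResolutionProperty (KRR.PY r Y) := by
  have ha : IsAffineHom (specULiftZIsTerminal.from Y) := isAffineHom_of_isAffine _
  have hfst : IsAffineHom (pullback.fst (CohB1.ProjSpace.toSpec r (ULift.{u} ℤ))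
      (specULiftZIsTerminal.from Y)) :=
    MorphismProperty.of_isPullback (IsPullback.of_hasPullback _ _).flip ha
  haveI := ProjSpace.Basic.isProper_toSpec r (ULift.{u} ℤ)
  haveI : CompactSpace (CohB1.ProjSpace r (ULift.{u} ℤ)) :=
    QuasiCompact.compactSpace_of_compactSpace (CohB1.ProjSpace.toSpec r (ULift.{u} ℤ))
  haveI : QuasiSeparatedSpace (CohB1.ProjSpace r (ULift.{u} ℤ)) :=
    quasiSeparatedSpace_of_quasiSeparated (CohB1.ProjSpace.toSpec r (ULift.{u} ℤ))
  exact @Groth.Agent.S1110.result _ _ (pullback.fst (CohB1.ProjSpace.toSpec r (ULift.{u} ℤ))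
      (specULiftZIsTerminal.from Y)) hfst _ _
    (Groth.Agent.S1108.result _ _ (HProj.QuasiProj.isAmple_twist_projSpace r (ULift.{u} ℤ)))

/-- High twists have no higher direct image. -/
theorem exists_isLE_twist [IsAffine Y] [DCoh.HasRpush (KRR.pr r Y)] (M : (KRR.PY r Y).Modules)
    (hM : FlatMod.IsFinLocFree M) :
    ∃ n₀ : ℕ, ∀ n : ℕ, n₀ ≤ n →
      ((DCoh.Rpush (KRR.pr r Y)).obj
        (DCoh.inD (KRR.PY r Y) ((DCoh.tensorRightMod (Twist.twistOver r Y n)).obj M))).IsLE 0 := by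
  haveI := ProjSpace.BaseChange.isProper_toBase (n := r) Y
  haveI := DerivedOX.Grothendieck.enoughInjectives_modules (KRR.PY r Y)
  haveI : HasInjectiveResolutions (KRR.PY r Y).Modules := inferInstance
  haveI : Smooth (CohB1.ProjSpaceOver.toBase r Y) := ProjSpace.BaseChange.smooth_toBase (n := r) Y
  have hfl : FlatMod.IsFlatOver (KRR.pr r Y) M :=
    _root_.ZarCoh.Exchange.NearFibre.isFlatOver_of_isFinLocFree (KRR.pr r Y) hM
  obtain ⟨n₀, h⟩ := Groth.Agent.S8664.result Y r M (TensorMod.FPConv.isFP_of_isFinLocFree hM) hfl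
  refine ⟨n₀, fun n hn => (DerivedCategory.isLE_iff _ _).2 fun i hi => ?_⟩
  obtain ⟨k, rfl⟩ := Int.eq_ofNat_of_zero_le (le_of_lt hi)
  let N := (DCoh.tensorRightMod (Twist.twistOver r Y (n : ℤ))).obj M
  let e : KRR.twF r Y (n : ℤ) M ≅ N := TensorMod.Basic.comm _ _
  obtain ⟨a⟩ := RpushQCoh.nonempty_HD_Rpush (KRR.pr r Y) (DCoh.inD _ N) (k : ℤ)
  obtain ⟨b⟩ := RpushQCoh.nonempty_RS_iso (KRR.pr r Y) N k
  obtain ⟨c⟩ := Groth.Agent.S11319.result (KRR.pr r Y) N k
  refine IsZero.of_iso ?_ (a ≪≫ b)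
  refine Groth.Agent.Lib.ExchangeFP29.RegSheaf.isZero_of_toAb (IsZero.of_iso ?_ c)
  exact ((h n hn).1 k (by omega)).of_iso
    ((Coh.RpushAb (KRR.pr r Y) k).mapIso ((SheafOfModules.toSheaf _).mapIso e.symm))

/-- High twists of a pseudo-coherent object: direct images acyclic above the top degree. -/
theorem exists_isLE [IsAffine Y] [DCoh.HasRpush (KRR.pr r Y)] (K : DCoh.D (KRR.PY r Y)) (a : ℤ)
    (hK : ∀ m : ℤ, DCoh.IsPseudoCoherentD m K) (ha : K.IsLE a) :
    ∃ N : ℤ, ∀ n : ℤ, N ≤ n → ∀ [DCoh.HasLTensorCx (O r (Y := Y) n)],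
      ((DCoh.Rpush (KRR.pr r Y)).obj ((DCoh.LTensorCx (O r n)).obj K)).IsLE a := by
  haveI := ProjSpace.BaseChange.isProper_toBase (n := r) Y
  haveI : CompactSpace (KRR.PY r Y) := QuasiCompact.compactSpace_of_compactSpace (KRR.pr r Y)
  haveI : QuasiSeparatedSpace (KRR.PY r Y) := quasiSeparatedSpace_of_quasiSeparated (KRR.pr r Y)
  have hX := hasResolutionProperty r Y
  obtain ⟨-, -, hes⟩ := ResPerf.QcModel.ff hX
  have hq : DCoh.IsQCohD K := ResPerf.AddLRes.isQCohD_of_pc hK
  obtain ⟨M, ⟨eM⟩⟩ := (hes K).1 hq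
  let A := DerivedCategory.Q.objPreimage M
  let C : CochainComplex (KRR.PY r Y).Modules ℤ := ResPerf.QcModel.i₀.obj A
  let e : DCoh.toD _ C ≅ K := ((H83.DQCohEquiv.incl _).mapDerivedCategoryFactors.app A).symm ≪≫
    (H83.DQCohEquiv.ΦX _).mapIso (DerivedCategory.Q.objObjPreimageIso M) ≪≫ eM
  haveI := ha
  have hC : ∀ i, a < i → C.ExactAt i := fun i hi => by
    rw [HomologicalComplex.exactAt_iff_isZero_homology]
    exact (DerivedCategory.isZero_of_isLE K a i hi).of_iso
      (((DerivedCategory.homologyFunctorFactors _ i).app C).symm ≪≫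
        (DerivedCategory.homologyFunctor _ i).mapIso e)
  have hCq : ∀ i, (C.X i).IsQuasicoherent := fun i => (A.X i).property
  obtain ⟨E, φ, hv, hlf, hex⟩ := ResPerf.exists_approx hX C hCq
    (fun m x => ((PseudoCoh.iff_forall m K).1 (hK m) x).of_iso e.symm) a hC (r + 1)
  let W := CochainComplex.mappingCone φ
  have hW : (DerivedCategory.Q.obj W).IsLE (a - (r + 1 : ℕ)) :=
    (DerivedCategory.isLE_iff _ _).2 fun i hi =>
      ((hex i (by omega)).isZero_homology).of_iso
        ((DerivedCategory.homologyFunctorFactors _ i).app W)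
  have hEq : DCoh.IsQCohD (DCoh.toD _ E) := PSup.PC.isQCohD_terms E fun i =>
    Modules.AffineSections.isQCoh_of_isFinLocFree (hlf i)
  have hCD : DCoh.IsQCohD (DCoh.toD _ C) := PSup.PC.isQCohD_terms C hCq
  have hWq : DCoh.IsQCohD (DerivedCategory.Q.obj W) :=
    ObjectProperty.ext_of_isTriangulatedClosed₃ _ _
      (DerivedCategory.mappingCone_triangle_distinguished φ) hEq hCD
  have hb : ∀ i, ∃ n₀ : ℕ, ∀ n : ℕ, n₀ ≤ n → ((DCoh.Rpush (KRR.pr r Y)).obj
      (DCoh.inD _ ((DCoh.tensorRightMod (Twist.twistOver r Y n)).obj (E.X i)))).IsLE 0 :=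
    fun i => exists_isLE_twist r (E.X i) (hlf i)
  choose n₀ hn₀ using hb
  refine ⟨((Finset.Icc (a + 1 - (r + 1 : ℕ)) a).sup n₀ : ℕ), fun n hn inst => ?_⟩
  obtain ⟨m, rfl⟩ := Int.eq_ofNat_of_zero_le (a := n) (by omega)
  let L := Twist.twistOver r Y (m : ℤ)
  haveI := LeftExists.hasLTensorMod L
  have hEk : DCoh.IsKFlat E := Amplitude.isKFlat_of_bounded E a (fun i hi => hv i (Or.inr hi))
    fun i => TensorMod.FPConv.isFlat_of_isFinLocFree (hlf i)
  obtain ⟨t⟩ := RpushTor.nonempty_ltensorMod_iso L hEk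
  obtain ⟨s⟩ := Amplitude.nonempty_ltensor_iso L hEk
  have h1 : ((DCoh.Rpush (KRR.pr r Y)).obj
      (DerivedCategory.Q.obj ((Amplitude.tens L).obj E))).IsLE a := by
    refine isLE_of_terms (KRR.pr r Y) a (r + 1) _
      (fun i hi => (DCoh.tensorRightMod L).map_isZero (hv i (Or.inl hi)))
      (fun i hi => (DCoh.tensorRightMod L).map_isZero (hv i (Or.inr hi))) fun i => ?_
    by_cases hi : i ∈ Finset.Icc (a + 1 - (r + 1 : ℕ)) a
    · exact hn₀ i m ((Finset.le_sup hi).trans (by exact_mod_cast hn))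
    · simp only [Finset.mem_Icc] at hi
      exact (DerivedCategory.isLE_iff _ _).2 fun j _ =>
        (DerivedCategory.homologyFunctor Y.Modules j).map_isZero ((DCoh.Rpush (KRR.pr r Y)).map_isZero
          ((DerivedCategory.singleFunctor _ 0).map_isZero
            ((DCoh.tensorRightMod L).map_isZero (hv i (by omega)))))
  have hOq : DCoh.IsQCohD (DCoh.toD _ (O r (Y := Y) (m : ℤ))) := PSup.PC.isQCohD_terms _ fun i =>
    Modules.AffineSections.isQCoh_of_isFinLocFree (isFinLocFree_O r (m : ℤ) i)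
  have hT := PSup.PC.isLE_LTensor (O r (Y := Y) (m : ℤ)) (a - (r + 1 : ℕ)) 0
    (fun i hi => isZero_single_obj_X (ComplexShape.up ℤ) 0 _ i (by omega)) hW
  haveI := hT
  have h3 := H56.ProjPC.isLE_Rpush_projSpace Y r _ (a - (r + 1 : ℕ) + 0)
    (QCohLocal.isQCohD_LTensorCx (O r (Y := Y) (m : ℤ)) hOq hWq)
  obtain ⟨T, hTd, ⟨u₁⟩, ⟨u₂⟩, ⟨u₃⟩⟩ := PSup.Triangle.exists_triangle (O r (Y := Y) (m : ℤ))
    (DCoh.Rpush (KRR.pr r Y)) _ (DerivedCategory.mappingCone_triangle_distinguished φ)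
  haveI := h1
  haveI : DerivedCategory.TStructure.t.IsLE T.obj₁ a :=
    DerivedCategory.TStructure.t.isLE_of_iso
      ((DCoh.Rpush (KRR.pr r Y)).mapIso (s.symm ≪≫ t) ≪≫ u₁.symm) a
  haveI := h3
  let u₃' : (DCoh.Rpush (KRR.pr r Y)).obj ((DCoh.LTensorCx (O r (Y := Y) (m : ℤ))).obj
      (DerivedCategory.Q.obj W)) ≅ T.obj₃ := u₃.symm
  haveI : DerivedCategory.TStructure.t.IsLE T.obj₃ (a - (r + 1 : ℕ) + 0 + r) :=
    DerivedCategory.TStructure.t.isLE_of_iso u₃' _
  haveI : DerivedCategory.TStructure.t.IsLE T.obj₃ a :=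
    DerivedCategory.TStructure.t.isLE_of_le _ (a - (r + 1 : ℕ) + 0 + r) a (by omega)
  haveI : DerivedCategory.TStructure.t.IsLE T.obj₂ a :=
    DerivedCategory.TStructure.t.isLE₂ T hTd a inferInstance inferInstance
  exact DerivedCategory.TStructure.t.isLE_of_iso
    (u₂ ≪≫ (DCoh.Rpush (KRR.pr r Y)).mapIso ((DCoh.LTensorCx _).mapIso e)) a

/-- The theorem for a closed subscheme of projective space. -/
theorem main {X : Scheme.{u}} [IsAffine Y] (i : X ⟶ CohB1.ProjSpaceOver r Y) [IsClosedImmersion i]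
    [DCoh.HasRpush i] [DCoh.HasRpush (i ≫ CohB1.ProjSpaceOver.toBase r Y)]
    [∀ n : ℤ, DCoh.HasLTensorMod ((Scheme.Modules.pullback i).obj (Twist.twistOver r Y n))]
    (E : DCoh.D X) (a : ℤ) [E.IsLE a]
    (hE : ∀ m : ℤ, DCoh.IsPseudoCoherentD m ((DCoh.Rpush i).obj E)) :
    ∃ N : ℤ, ∀ n : ℤ, N ≤ n →
      (∀ m : ℤ, DCoh.IsPseudoCoherentD m ((DCoh.Rpush (i ≫ CohB1.ProjSpaceOver.toBase r Y)).obj
        ((DCoh.LTensorMod ((Scheme.Modules.pullback i).obj (Twist.twistOver r Y n))).obj E))) ∧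
      ((DCoh.Rpush (i ≫ CohB1.ProjSpaceOver.toBase r Y)).obj
        ((DCoh.LTensorMod ((Scheme.Modules.pullback i).obj (Twist.twistOver r Y n))).obj E)).IsLE a := by
  haveI := ProjSpace.BaseChange.isProper_toBase (n := r) Y
  haveI : Smooth (CohB1.ProjSpaceOver.toBase r Y) := ProjSpace.BaseChange.smooth_toBase (n := r) Y
  haveI := PushClosed.Basic.pushforward_isLeftAdjoint i
  haveI : PreservesFiniteColimits (Scheme.Modules.pushforward i) := RHomO.Main.preservesFiniteColimits_push i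
  haveI : PreservesFiniteLimits (Scheme.Modules.pushforward i) := by
    haveI : PreservesLimitsOfSize.{0, 0} (Scheme.Modules.pushforward i) :=
      (Scheme.Modules.pullbackPushforwardAdjunction i).rightAdjoint_preservesLimits
    exact PreservesLimitsOfSize.preservesFiniteLimits _
  haveI := Exists.hasRpush (KRR.pr r Y)
  let K := (DCoh.Rpush i).obj E
  have ha : K.IsLE a := (DerivedCategory.isLE_iff _ _).2 fun j hj => by
    obtain ⟨ε⟩ := RHomO.Derived.nonempty_Rpush_iso i
    obtain ⟨h⟩ := RHomO.Main.nonempty_HD_pushD i E j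
    exact ((Scheme.Modules.pushforward i).map_isZero (DerivedCategory.isZero_of_isLE E a j hj)).of_iso
      ((DerivedCategory.homologyFunctor _ j).mapIso (ε.app E) ≪≫ h)
  obtain ⟨N, hN⟩ := exists_isLE r K a hE ha
  refine ⟨N, fun n hn => ?_⟩
  let P := O r (Y := Y) n
  haveI := LeftExists.hasLTensorCx P
  let L := (Scheme.Modules.pullback i).obj (Twist.twistOver r Y n)
  let D := ((Scheme.Modules.pullback i).mapHomologicalComplex (ComplexShape.up ℤ)).obj P
  let eD : D ≅ (single X.Modules (ComplexShape.up ℤ) 0).obj L :=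
    (singleMapHomologicalComplex (Scheme.Modules.pullback i) (ComplexShape.up ℤ) 0).app _
  haveI := LeftExists.hasLTensorCx D
  haveI := LeftExists.hasLTensorCx ((single X.Modules (ComplexShape.up ℤ) 0).obj L)
  obtain ⟨B, hB, ⟨eB⟩⟩ := QCohLocal.exists_kflat E
  obtain ⟨t⟩ := RpushTor.nonempty_ltensorMod_iso L hB
  obtain ⟨s⟩ := QCohLocal.nonempty_LTensorCx_iso D hB
  obtain ⟨s'⟩ := QCohLocal.nonempty_LTensorCx_iso ((single X.Modules (ComplexShape.up ℤ) 0).obj L) hB
  obtain ⟨c⟩ := QCohLocal.nonempty_tensor_iso hB (DerivedCategory.Q.mapIso eD)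
  have hPperf : DCoh.IsPerfect (DerivedCategory.Q.obj P) :=
    (Perfect.Triangle.isPerfect_iff _).2 fun x =>
      ⟨_, 𝟙 _, inferInstance, x, (rC (𝟙 _)).obj P, by simp,
        isStrictlyPerfect_map _ ⟨⟨0, 0, fun j hj =>
          isZero_single_obj_X (ComplexShape.up ℤ) 0 _ j (by omega)⟩, isFinLocFree_O r n⟩,
        ⟨RDQ (𝟙 _) P⟩⟩
  obtain ⟨p⟩ := Groth.Agent.S0961.result i P (isKFlat_O r n) hPperf E
  let eX : (DCoh.LTensorMod L).obj E ≅ (DCoh.LTensorCx D).obj E :=
    (DCoh.LTensorMod L).mapIso eB.symm ≪≫ t ≪≫ s' ≪≫ c.symm ≪≫ s.symm ≪≫ (DCoh.LTensorCx D).mapIso eB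
  let θ : (DCoh.Rpush (i ≫ CohB1.ProjSpaceOver.toBase r Y)).obj ((DCoh.LTensorMod L).obj E) ≅
      (DCoh.Rpush (KRR.pr r Y)).obj ((DCoh.LTensorCx P).obj K) :=
    ((PullComp.rpushCompIso i (CohB1.ProjSpaceOver.toBase r Y)).app _).symm ≪≫
      (DCoh.Rpush (KRR.pr r Y)).mapIso ((DCoh.Rpush i).mapIso eX ≪≫ p.symm)
  refine ⟨fun m => ?_, ?_⟩
  · have h := PSup.PC.isPC (KRR.pr r Y) K hE P
      ⟨0, fun j hj => isZero_single_obj_X (ComplexShape.up ℤ) 0 _ j (by omega)⟩
      (fun j => TensorMod.FPConv.isFP_of_isFinLocFree (isFinLocFree_O r n j))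
      (fun j => _root_.ZarCoh.Exchange.NearFibre.isFlatOver_of_isFinLocFree (KRR.pr r Y) (isFinLocFree_O r n j))
      (fun j => Groth.Agent.S5186.isProperOver_support (KRR.pr r Y) _
        (@Modules.Support.isClosed_support _ ((O r (Y := Y) n).X j)
          (CohDelta.IndExt.QCoh.isFT_of_isFP (TensorMod.FPConv.isFP_of_isFinLocFree (isFinLocFree_O r n j))))) m
    exact (PseudoCoh.iff_forall m _).2 fun x => ((PseudoCoh.iff_forall m _).1 h x).of_iso θ.symm
  · haveI := hN n hn
    exact DerivedCategory.TStructure.t.isLE_of_iso θ.symm a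

end Groth.Agent.H56.TwistAcyc
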